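import Groth.Agent.KrullAkizuki.Basic
import Mathlib

set_option linter.style.haveILetI false

/-!
# Degree inequality for orders in dimension one
-/

namespace Groth.Agent.DegOrd

open Groth.Agent.KrullAkizuki

universe u

/-- Length of `T` over itself is invariant under ring isomorphisms. -/
theorem length_eq_of_ringEquiv {T S : Type u} [CommRing T] [CommRing S] (e : T ≃+* S) :
    Module.length T T = Module.length S S := by
  letI := e.toRingHom.toAlgebra
  have h1 : Module.length T S = Module.length S S := Module.length_eq_of_surjective e.surjective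
  rw [← h1]
  refine LinearEquiv.length_eq (LinearEquiv.ofBijective (Algebra.linearMap T S) ?_)
  exact e.bijective

/-- `B_m / x B_m` is the localisation of `B / x B`. -/
theorem length_localization_quotient {B : Type u} [CommRing B] (x : B) (m : Ideal B) [m.IsPrime]
    (M : Ideal (B ⧸ Ideal.span {x})) [M.IsPrime] (hM : M.comap (Ideal.Quotient.mk _) = m) :
    Module.length (Localization.AtPrime m)
      (Localization.AtPrime m ⧸ Ideal.span {algebraMap B (Localization.AtPrime m) x}) =
    Module.length (Localization.AtPrime M) (Localization.AtPrime M) := by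
  let π : B →+* Localization.AtPrime M := (algebraMap _ _).comp (Ideal.Quotient.mk (Ideal.span {x}))
  have hπu : ∀ y : m.primeCompl, IsUnit (π y) := fun y =>
    IsLocalization.map_units (Localization.AtPrime M)
      (⟨Ideal.Quotient.mk _ (y : B), fun h => y.2 (hM ▸ h)⟩ : M.primeCompl)
  let α : Localization.AtPrime m →+* Localization.AtPrime M := IsLocalization.lift hπu
  have hα : Function.Surjective α := by
    intro w
    obtain ⟨b, ⟨s, hs⟩, rfl⟩ := IsLocalization.exists_mk'_eq M.primeCompl w
    obtain ⟨b, rfl⟩ := Ideal.Quotient.mk_surjective b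
    obtain ⟨s, rfl⟩ := Ideal.Quotient.mk_surjective s
    refine ⟨IsLocalization.mk' _ b (⟨s, fun h => hs ?_⟩ : m.primeCompl), ?_⟩
    · rw [← hM] at h; exact h
    · rw [IsLocalization.lift_mk'_spec]
      exact (IsLocalization.mk'_spec' (M := M.primeCompl) (Localization.AtPrime M) (Ideal.Quotient.mk _ b) ⟨_, hs⟩).symm
  have hker : RingHom.ker α = Ideal.span {algebraMap B (Localization.AtPrime m) x} := by
    refine le_antisymm ?_ ((Ideal.span_singleton_le_iff_mem _).mpr ?_)
    · intro z hz
      obtain ⟨b, ⟨s, hs⟩, rfl⟩ := IsLocalization.exists_mk'_eq m.primeCompl z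
      rw [RingHom.mem_ker, IsLocalization.lift_mk'_spec, mul_zero] at hz
      obtain ⟨⟨v, hv⟩, hvb⟩ := (IsLocalization.map_eq_zero_iff M.primeCompl _ _).mp hz
      obtain ⟨v, rfl⟩ := Ideal.Quotient.mk_surjective v
      rw [← map_mul, Ideal.Quotient.eq_zero_iff_mem, Ideal.mem_span_singleton'] at hvb
      obtain ⟨c, hc⟩ := hvb
      have hvm : v ∉ m := fun h => hv (by rw [← hM] at h; exact h)
      rw [Ideal.mem_span_singleton']
      refine ⟨IsLocalization.mk' _ c (⟨v, hvm⟩ * ⟨s, hs⟩ : m.primeCompl), ?_⟩
      rw [mul_comm, IsLocalization.mul_mk'_eq_mk'_of_mul, IsLocalization.mk'_eq_iff_eq]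
      congr 1
      show s * (x * c) = v * s * b
      rw [mul_comm x c, hc]; ring
    · rw [RingHom.mem_ker, IsLocalization.lift_eq]
      show algebraMap (B ⧸ Ideal.span {x}) (Localization.AtPrime M) (Ideal.Quotient.mk _ x) = 0
      rw [Ideal.Quotient.eq_zero_iff_mem.mpr (Ideal.mem_span_singleton_self x), map_zero]
  rw [Module.length_eq_of_surjective
    (R := Localization.AtPrime m ⧸ Ideal.span {algebraMap B (Localization.AtPrime m) x}) Ideal.Quotient.mk_surjective]
  exact length_eq_of_ringEquiv ((Ideal.quotEquivOfEq hker.symm).trans (RingHom.quotientKerEquivOfSurjective hα))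

variable {A B : Type u} [CommRing A] [IsLocalRing A] [CommRing B] [Algebra A B]

/-- Residue degree formula. -/
theorem length_eq_sum (x : A) (hx : x ∈ IsLocalRing.maximalIdeal A)
    (hfl : IsArtinian A (B ⧸ Ideal.span {algebraMap A B x}))
    (hmax : ∀ m : Ideal B, m.IsMaximal → algebraMap A B x ∈ m → m.comap (algebraMap A B) = IsLocalRing.maximalIdeal A) :
    {m : MaximalSpectrum B | algebraMap A B x ∈ m.asIdeal}.Finite ∧
    (∑ᶠ m : MaximalSpectrum B, Module.length A (B ⧸ m.asIdeal) *
        Module.length (Localization.AtPrime m.asIdeal)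
          (Localization.AtPrime m.asIdeal ⧸ Ideal.span ({algebraMap A (Localization.AtPrime m.asIdeal) x} : Set _))) =
      Module.length A (B ⧸ Ideal.span {algebraMap A B x}) := by
  classical
  let xB := algebraMap A B x
  let Q := B ⧸ Ideal.span {xB}
  haveI := hfl
  haveI : IsArtinianRing Q := isArtinian_of_tower A hfl
  let ι : MaximalSpectrum Q → MaximalSpectrum B := fun M =>
    ⟨M.asIdeal.comap (Ideal.Quotient.mk _),
      Ideal.comap_isMaximal_of_surjective _ Ideal.Quotient.mk_surjective (H := M.isMaximal)⟩
  have hιinj : Function.Injective ι := fun M N h => MaximalSpectrum.ext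
    (Ideal.comap_injective_of_surjective _ Ideal.Quotient.mk_surjective (congrArg MaximalSpectrum.asIdeal h))
  have hrange : ∀ m : MaximalSpectrum B, xB ∈ m.asIdeal → m ∈ Set.range ι := by
    intro m hm
    have hle : Ideal.span {xB} ≤ m.asIdeal := (Ideal.span_singleton_le_iff_mem _).mpr hm
    have hc : (m.asIdeal.map (Ideal.Quotient.mk (Ideal.span {xB}))).comap (Ideal.Quotient.mk _) = m.asIdeal := by
      rw [Ideal.comap_map_of_surjective _ Ideal.Quotient.mk_surjective, ← RingHom.ker_eq_comap_bot, Ideal.mk_ker,
        sup_eq_left.mpr hle]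
    refine ⟨⟨m.asIdeal.map (Ideal.Quotient.mk _),
      (Ideal.map_eq_top_or_isMaximal_of_surjective _ Ideal.Quotient.mk_surjective m.isMaximal).resolve_left
        fun h => m.isMaximal.ne_top (by rw [← hc, h, Ideal.comap_top])⟩, MaximalSpectrum.ext hc⟩
  haveI : Finite (MaximalSpectrum Q) := inferInstance
  haveI := Fintype.ofFinite (MaximalSpectrum Q)
  refine ⟨(Set.finite_range ι).subset fun m hm => hrange m hm, ?_⟩
  rw [finsum_eq_sum_of_support_subset _ (s := Finset.univ.image ι) (fun m hm => by
    rw [Finset.coe_image, Finset.coe_univ, Set.image_univ]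
    refine hrange m ?_
    by_contra hxm
    refine hm ?_
    have htop : Ideal.span ({algebraMap A (Localization.AtPrime m.asIdeal) x} : Set _) = ⊤ :=
      Ideal.span_singleton_eq_top.mpr (by
        rw [IsScalarTower.algebraMap_apply A B (Localization.AtPrime m.asIdeal)]
        exact IsLocalization.map_units _ (⟨xB, hxm⟩ : m.asIdeal.primeCompl))
    haveI : Subsingleton (Localization.AtPrime m.asIdeal ⧸ Ideal.span ({algebraMap A (Localization.AtPrime m.asIdeal) x} : Set _)) :=
      Ideal.Quotient.subsingleton_iff.mpr htop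
    simp [Module.length_eq_zero]), Finset.sum_image fun M _ N _ h => hιinj h,
    LinearEquiv.length_eq ((MaximalSpectrum.toPiLocalizationEquiv Q).restrictScalars A).toLinearEquiv]
  show _ = Module.length A (∀ M : MaximalSpectrum Q, Localization.AtPrime M.asIdeal)
  rw [Module.length_pi_of_fintype]
  refine Finset.sum_congr rfl fun M _ => ?_
  rw [IsScalarTower.algebraMap_apply A B (Localization.AtPrime (ι M).asIdeal),
    length_localization_quotient xB (ι M).asIdeal M.asIdeal rfl]
  have hm : algebraMap A B x ∈ (ι M).asIdeal := by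
    show Ideal.Quotient.mk _ xB ∈ M.asIdeal
    rw [Ideal.Quotient.eq_zero_iff_mem.mpr (Ideal.mem_span_singleton_self _)]
    exact zero_mem _
  haveI : IsLocalHom (algebraMap A (Localization.AtPrime M.asIdeal)) := by
    refine ⟨fun a ha => ?_⟩
    by_contra hna
    have h1 : a ∈ (ι M).asIdeal.comap (algebraMap A B) := by
      rw [hmax _ (ι M).isMaximal hm]; exact hna
    rw [IsScalarTower.algebraMap_apply A Q (Localization.AtPrime M.asIdeal),
      IsLocalization.AtPrime.isUnit_to_map_iff _ M.asIdeal] at ha
    exact ha h1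
  rw [IsLocalRing.length_restrictScalars A (Localization.AtPrime M.asIdeal) (Localization.AtPrime M.asIdeal), mul_comm]
  congr 1
  rw [show Module.length (IsLocalRing.ResidueField A) (IsLocalRing.ResidueField (Localization.AtPrime M.asIdeal)) =
      Module.length A (IsLocalRing.ResidueField (Localization.AtPrime M.asIdeal)) from
    (Module.length_eq_of_surjective (IsLocalRing.residue_surjective (R := A))).symm]
  let φ : B →ₐ[A] IsLocalRing.ResidueField (Localization.AtPrime M.asIdeal) :=
    (IsScalarTower.toAlgHom A (Localization.AtPrime M.asIdeal) _).comp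
      ((IsScalarTower.toAlgHom A Q (Localization.AtPrime M.asIdeal)).comp (Ideal.Quotient.mkₐ A _))
  have hφker : RingHom.ker φ.toRingHom = (ι M).asIdeal := by
    ext b
    show IsLocalRing.residue _ (algebraMap Q (Localization.AtPrime M.asIdeal) (Ideal.Quotient.mk _ b)) = 0 ↔ _
    rw [IsLocalRing.residue_eq_zero_iff, IsLocalization.AtPrime.to_map_mem_maximal_iff _ M.asIdeal]
    rfl
  have hφ : Function.Surjective φ := by
    intro w
    haveI := M.isMaximal
    obtain ⟨w', hw'⟩ := (IsLocalization.AtPrime.equivQuotMaximalIdeal M.asIdeal (Localization.AtPrime M.asIdeal)).surjective w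
    obtain ⟨z, rfl⟩ := Ideal.Quotient.mk_surjective w'
    obtain ⟨b, rfl⟩ := Ideal.Quotient.mk_surjective z
    exact ⟨b, by rw [← hw']; rfl⟩
  exact LinearEquiv.length_eq (((Ideal.quotientEquivAlgOfEq A hφker.symm).trans
    (Ideal.quotientKerAlgEquivOfSurjective hφ)).toLinearEquiv)

variable [IsDomain A] [IsNoetherianRing A] [Ring.KrullDimLE 1 A] [IsDomain B]
variable {K L : Type u} [Field K] [Field L] [Algebra A K] [IsFractionRing A K] [Algebra B L] [IsFractionRing B L]
    [Algebra K L] [Algebra A L] [IsScalarTower A K L] [IsScalarTower A B L] [FiniteDimensional K L]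

omit [IsLocalRing A] [IsNoetherianRing A] [Ring.KrullDimLE 1 A] [IsDomain B] [IsDomain A] [IsFractionRing A K] in
theorem exists_embedding (N : Submodule A L) :
    ∃ j : N →ₗ[A] (Fin (Module.finrank K L) → K), Function.Injective j :=
  ⟨(((Module.finBasis K L).equivFun.restrictScalars A).toLinearMap).comp N.subtype,
    ((Module.finBasis K L).equivFun.injective).comp Subtype.val_injective⟩

omit [IsDomain B] in
theorem length_quot_le (x : A) (hx0 : x ≠ 0) :
    Module.length A (B ⧸ Ideal.span {algebraMap A B x}) ≤
      (Module.finrank K L : ℕ∞) * Module.length A (A ⧸ Ideal.span ({x} : Set A)) ∧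
    IsArtinian A (B ⧸ Ideal.span {algebraMap A B x}) := by
  let j : B →ₗ[A] (Fin (Module.finrank K L) → K) :=
    (((Module.finBasis K L).equivFun.restrictScalars A).toLinearMap).comp (IsScalarTower.toAlgHom A B L).toLinearMap
  have hj : Function.Injective j := ((Module.finBasis K L).equivFun.injective).comp (IsFractionRing.injective B L)
  refine ⟨?_, (isNoetherian_quotient_span j hj x hx0).2⟩
  have e := (Submodule.quotEquivOfEq _ _ (span_smul_top_eq (A := B) x)).trans
    (Submodule.Quotient.restrictScalarsEquiv A _)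
  rw [← e.length_eq]
  exact length_quotient_le _ j hj x hx0

/-- Equality forces finiteness. -/
theorem finite_of_length_eq (x : A) (hx : x ∈ IsLocalRing.maximalIdeal A) (hx0 : x ≠ 0)
    (heq : Module.length A (B ⧸ Ideal.span {algebraMap A B x}) =
      (Module.finrank K L : ℕ∞) * Module.length A (A ⧸ Ideal.span ({x} : Set A))) : Module.Finite A B := by
  classical
  let j : B →ₗ[A] (Fin (Module.finrank K L) → K) :=
    (((Module.finBasis K L).equivFun.restrictScalars A).toLinearMap).comp (IsScalarTower.toAlgHom A B L).toLinearMap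
  have hj : Function.Injective j := ((Module.finBasis K L).equivFun.injective).comp (IsFractionRing.injective B L)
  haveI := (isNoetherian_quotient_span j hj x hx0).1
  obtain ⟨n, g, hg⟩ := Module.Finite.exists_fin' A (B ⧸ Ideal.span {algebraMap A B x})
  choose lift hlift using Ideal.Quotient.mk_surjective (I := Ideal.span {algebraMap A B x})
  let M : Submodule A B := Submodule.span A (Set.range fun i => lift (g (Pi.single i 1)))
  suffices M = ⊤ from ⟨this ▸ Submodule.fg_span (Set.finite_range _)⟩
  have hMsurj : ∀ b : B, ∃ m ∈ M, ∃ z : B, b = m + x • z := by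
    intro b
    obtain ⟨c, hc⟩ := hg (Ideal.Quotient.mk _ b)
    refine ⟨∑ i, c i • lift (g (Pi.single i 1)), Submodule.sum_mem _ fun i _ => M.smul_mem _ (Submodule.subset_span ⟨i, rfl⟩), ?_⟩
    have h1 : Ideal.Quotient.mk (Ideal.span {algebraMap A B x}) (∑ i, c i • lift (g (Pi.single i 1))) = Ideal.Quotient.mk _ b := by
      rw [← hc, map_sum]
      conv_rhs => rw [show c = ∑ i, c i • (Pi.single i (1 : A) : Fin n → A) by ext k; simp [Finset.sum_apply, Pi.single_apply]]
      rw [map_sum]
      refine Finset.sum_congr rfl fun i _ => ?_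
      rw [LinearMap.map_smul, show Ideal.Quotient.mk (Ideal.span {algebraMap A B x}) (c i • lift (g (Pi.single i 1))) =
        c i • Ideal.Quotient.mk (Ideal.span {algebraMap A B x}) (lift (g (Pi.single i 1))) from rfl, hlift]
    obtain ⟨w, hw⟩ := Ideal.mem_span_singleton'.mp ((Ideal.Quotient.eq).mp h1.symm)
    exact ⟨w, by rw [Algebra.smul_def, mul_comm, hw]; ring⟩
  refine eq_top_iff.mpr fun y _ => ?_
  let M' : Submodule A B := M ⊔ Submodule.span A {y}
  have hM'fg : M'.FG := (Submodule.fg_span (Set.finite_range _)).sup (Submodule.fg_span_singleton y)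
  let X : Ideal A := Ideal.span {x}
  let π : (M' ⧸ (X • ⊤ : Submodule A M')) →ₗ[A] (B ⧸ Ideal.span {algebraMap A B x}) :=
    Submodule.liftQ _ (((Ideal.Quotient.mkₐ A (Ideal.span {algebraMap A B x})).toLinearMap).comp M'.subtype) (by
      intro m hm
      obtain ⟨m', rfl⟩ := (mem_span_smul_top x m).mp hm
      rw [LinearMap.mem_ker, map_smul]
      show x • Ideal.Quotient.mk _ (m' : B) = 0
      rw [Algebra.smul_def, IsScalarTower.algebraMap_apply A B (B ⧸ _)]
      show Ideal.Quotient.mk _ (algebraMap A B x) * _ = 0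
      rw [Ideal.Quotient.eq_zero_iff_mem.mpr (Ideal.mem_span_singleton_self _), zero_mul])
  have hπ : Function.Surjective π := by
    intro q
    obtain ⟨b, rfl⟩ := Ideal.Quotient.mk_surjective q
    obtain ⟨m, hm, z, rfl⟩ := hMsurj b
    refine ⟨Submodule.Quotient.mk ⟨m, Submodule.mem_sup_left hm⟩, ?_⟩
    show Ideal.Quotient.mk _ m = _
    rw [eq_comm, Ideal.Quotient.eq, add_sub_cancel_left, Algebra.smul_def]
    exact Ideal.mul_mem_right _ _ (Ideal.mem_span_singleton_self _)
  have hπinj : Function.Injective π := by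
    obtain ⟨j', hj'⟩ : ∃ j' : M' →ₗ[A] (Fin (Module.finrank K L) → K), Function.Injective j' :=
      ⟨j.comp M'.subtype, hj.comp Subtype.val_injective⟩
    have hle := length_quotient_le _ j' hj' x hx0
    rw [← heq] at hle
    have hfin : Module.length A (B ⧸ Ideal.span {algebraMap A B x}) ≠ ⊤ := by
      rw [Module.length_ne_top_iff, isFiniteLength_iff_isNoetherian_isArtinian]
      exact ⟨inferInstance, (isNoetherian_quotient_span j hj x hx0).2⟩
    have hadd := Module.length_eq_add_of_exact (LinearMap.ker π).subtype π (Submodule.subtype_injective _) hπ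
      (LinearMap.exact_subtype_ker_map π)
    have h0 : Module.length A (LinearMap.ker π) = 0 := by
      have h1 : Module.length A (LinearMap.ker π) + Module.length A (B ⧸ Ideal.span {algebraMap A B x}) ≤
          0 + Module.length A (B ⧸ Ideal.span {algebraMap A B x}) := by rw [← hadd, zero_add]; exact hle
      exact le_antisymm ((ENat.add_le_add_iff_right hfin).mp h1) zero_le
    rw [← LinearMap.ker_eq_bot, Submodule.eq_bot_iff]
    haveI := Module.length_eq_zero_iff.mp h0
    exact fun z hz => congrArg Subtype.val (Subsingleton.elim (⟨z, hz⟩ : LinearMap.ker π) 0)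
  -- Nakayama
  have hle : (⊤ : Submodule A M') ≤ M.comap M'.subtype ⊔ X • ⊤ := by
    intro w _
    obtain ⟨m, hm, z, hz⟩ := hMsurj w
    have hmem : (Submodule.Quotient.mk (w - ⟨m, Submodule.mem_sup_left hm⟩) : M' ⧸ (X • ⊤ : Submodule A M')) = 0 := by
      refine hπinj ?_
      rw [map_zero]
      show Ideal.Quotient.mk _ ((w : B) - m) = 0
      rw [Ideal.Quotient.eq_zero_iff_mem, hz, add_sub_cancel_left, Algebra.smul_def]
      exact Ideal.mul_mem_right _ _ (Ideal.mem_span_singleton_self _)
    rw [Submodule.Quotient.mk_eq_zero] at hmem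
    exact Submodule.mem_sup.mpr ⟨⟨m, Submodule.mem_sup_left hm⟩, hm, _, hmem, by abel⟩
  haveI : Module.Finite A M' := (Module.Finite.iff_fg).mpr hM'fg
  have h2 := Submodule.le_of_le_smul_of_le_jacobson_bot Module.Finite.fg_top
    ((Ideal.span_singleton_le_iff_mem _).mpr (IsLocalRing.maximalIdeal_le_jacobson ⊥ hx)) hle
  exact h2 (Submodule.mem_top (x := (⟨y, Submodule.mem_sup_right (Submodule.mem_span_singleton_self y)⟩ : M')))

end Groth.Agent.DegOrd
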